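import Mathlib
import Groth.Agent.FlatDescent.Flattening

/-!
# Generic freeness of flat modules; principal stratifications with free strata
-/

universe u

open TensorProduct MvPolynomial

namespace Groth.FlatDescent

/-- A finitely presented module, flat at the generic point of an irreducible base, is free on a nonempty open. -/
theorem exists_free_away_of_flat_generic {A : Type u} [CommRing A] [IrreducibleSpace (PrimeSpectrum A)] {B : Type u}
    [CommRing B] [Algebra A B] [Algebra.FinitePresentation A B] (M : Type u) [AddCommGroup M] [Module B M] [Module A M]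
    [IsScalarTower A B M] [Module.FinitePresentation B M] (p : Ideal A) [p.IsPrime] (hp : nilradical A = p)
    (hflat : Module.Flat (Localization.AtPrime p) (Localization.AtPrime p ⊗[A] M)) :
    ∃ t : A, t ∉ p ∧ ∀ (A' : Type u) [CommRing A'] [Algebra A A'], IsUnit (algebraMap A A' t) →
      Module.Free A' (A' ⊗[A] M) := by
  classical
  obtain ⟨h, hh, J, hJfg, -, huniv⟩ := exists_flattening_free (A := A) B M
  have hhp : h ∉ p := fun hm => hh (mem_nilradical.1 (by rw [hp]; exact hm))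
  have hJ0 := (huniv (Localization.AtPrime p) (IsLocalization.map_units _ (⟨h, hhp⟩ : p.primeCompl))).1.1 hflat
  obtain ⟨T, hT⟩ := hJfg
  have hann : ∀ a ∈ T, ∃ s : A, s ∉ p ∧ s * a = 0 := by
    intro a ha
    have h1 : algebraMap A (Localization.AtPrime p) a = 0 := by
      rw [← Ideal.mem_bot, ← hJ0]
      exact Ideal.mem_map_of_mem _ (hT ▸ Ideal.subset_span ha)
    obtain ⟨⟨s, hs⟩, hsa⟩ := (IsLocalization.map_eq_zero_iff p.primeCompl _ a).1 h1
    exact ⟨s, hs, hsa⟩
  choose! s hs hsa using hann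
  refine ⟨(∏ a ∈ T, s a) * h, ?_, fun A' _ _ hu => ?_⟩
  · refine fun hm => (Ideal.IsPrime.mem_or_mem ‹_› hm).elim (fun hm => ?_) hhp
    obtain ⟨a, ha, ha'⟩ := (Ideal.IsPrime.prod_mem_iff).1 hm
    exact hs a ha ha'
  · rw [map_mul, IsUnit.mul_iff] at hu
    refine (huniv A' hu.2).2 ?_
    rw [← hT, Ideal.map_span, Ideal.span_eq_bot]
    rintro _ ⟨a, ha, rfl⟩
    obtain ⟨c, hc⟩ := Finset.dvd_prod_of_mem s ha
    refine hu.1.mul_right_eq_zero.1 ?_
    rw [← map_mul, hc, mul_comm (s a), mul_assoc, hsa a ha, mul_zero, map_zero]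

/-- `M` becomes free over every algebra in which `f` is invertible and `J` vanishes. -/
def FreeOn {A : Type u} [CommRing A] (M : Type u) [AddCommGroup M] [Module A M] (J : Ideal A) (f : A) : Prop :=
  ∀ (A' : Type u) [CommRing A'] [Algebra A A'], IsUnit (algebraMap A A' f) → J.map (algebraMap A A') = ⊥ →
    Module.Free A' (A' ⊗[A] M)

variable {σ κ : Type} [Finite σ] [Finite κ]

theorem exists_freeOn {A : Type u} [CommRing A] [IsNoetherianRing A]
    (N : Submodule (MvPolynomial σ A) (κ → MvPolynomial σ A)) [Module.Flat A ((κ → MvPolynomial σ A) ⧸ N)]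
    (J : Ideal A) (hJ : J ≠ ⊤) : ∃ f, f ∉ J ∧ FreeOn ((κ → MvPolynomial σ A) ⧸ N) J f := by
  classical
  let M := (κ → MvPolynomial σ A) ⧸ N
  obtain ⟨m, hm, hJm⟩ := Ideal.exists_le_maximal J hJ
  haveI := hm.isPrime
  obtain ⟨q, hq, -⟩ := Ideal.exists_minimalPrimes_le hJm
  haveI hqp : q.IsPrime := hq.1.1
  have hsep : ∀ r ∈ J.minimalPrimes, r ≠ q → ∃ x ∈ r, x ∉ q := fun r hr hne => by
    by_contra hno
    push Not at hno
    exact hne (le_antisymm (fun x hx => hno x hx) (hq.2 hr.1 fun x hx => hno x hx))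
  choose! x hx hxq using hsep
  have hfin : J.minimalPrimes.Finite := Ideal.finite_minimalPrimes_of_isNoetherianRing A J
  let g := ∏ r ∈ hfin.toFinset.filter (· ≠ q), x r
  have hgq : g ∉ q := fun h => by
    obtain ⟨r, hr, hrq⟩ := (Ideal.IsPrime.prod_mem_iff).1 h
    rw [Finset.mem_filter, Set.Finite.mem_toFinset] at hr
    exact hxq r hr.1 hr.2 hrq
  have hgr : ∀ a ∈ q, g * a ∈ J.radical := fun a ha => by
    rw [← Ideal.sInf_minimalPrimes, Ideal.mem_sInf]
    intro r hr
    by_cases hrq : r = q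
    · exact hrq ▸ Ideal.mul_mem_left _ g ha
    · refine Ideal.mul_mem_right _ _ ?_
      have hmem : r ∈ hfin.toFinset.filter (· ≠ q) := by simp [hr, hrq]
      obtain ⟨c, hc⟩ := Finset.dvd_prod_of_mem x hmem
      show (∏ r ∈ hfin.toFinset.filter (· ≠ q), x r) ∈ r
      rw [hc]
      exact Ideal.mul_mem_right _ _ (hx r hr hrq)
  let Q := A ⧸ J
  let A₁ := Localization.Away (Ideal.Quotient.mk J g)
  let φ : A →+* A₁ := algebraMap A A₁
  have hφ : ∀ a, φ a = algebraMap Q A₁ (Ideal.Quotient.mk J a) := fun a => IsScalarTower.algebraMap_apply A Q A₁ a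
  have hgu : IsUnit (φ g) := by rw [hφ]; exact IsLocalization.Away.algebraMap_isUnit _
  have hnil : ∀ a, IsNilpotent (φ a) ↔ g * a ∈ J.radical := by
    intro a
    constructor
    · rintro ⟨n, hn⟩
      rw [← map_pow, hφ] at hn
      obtain ⟨⟨_, k, rfl⟩, hk⟩ := (IsLocalization.map_eq_zero_iff (Submonoid.powers (Ideal.Quotient.mk J g)) A₁ _).1 hn
      refine ⟨k + n, ?_⟩
      have h1 : g ^ k * a ^ n ∈ J := Ideal.Quotient.eq_zero_iff_mem.1 (by rw [map_mul, map_pow]; exact hk)
      rw [show (g * a) ^ (k + n) = (g ^ k * a ^ n) * (g ^ n * a ^ k) by ring]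
      exact Ideal.mul_mem_right _ _ h1
    · rintro ⟨n, hn⟩
      refine ⟨n, ?_⟩
      have h1 : φ ((g * a) ^ n) = 0 := by rw [hφ, Ideal.Quotient.eq_zero_iff_mem.2 hn, map_zero]
      rw [map_pow, map_mul, mul_pow] at h1
      exact (hgu.pow n).mul_right_eq_zero.1 h1
  have hrep : ∀ z : A₁, ∃ (a : A) (k : ℕ), z * φ g ^ k = φ a := fun z => by
    obtain ⟨k, a, ha⟩ := IsLocalization.Away.surj (Ideal.Quotient.mk J g) z
    obtain ⟨a, rfl⟩ := Ideal.Quotient.mk_surjective a
    exact ⟨a, k, by rw [hφ, hφ]; exact ha⟩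
  have hJq : J.radical ≤ q := hqp.isRadical.radical_le_iff.2 hq.1.2
  have hnilq : ∀ a, IsNilpotent (φ a) ↔ a ∈ q := fun a =>
    ⟨fun h => (hqp.mem_or_mem (hJq ((hnil a).1 h))).resolve_left hgq, fun h => (hnil a).2 (hgr a h)⟩
  have hrepnil : ∀ (z : A₁) (a : A) (k : ℕ), z * φ g ^ k = φ a → (IsNilpotent z ↔ a ∈ q) := fun z a k h => by
    rw [← hnilq, ← h]
    exact ⟨fun hz => (Commute.all z _).isNilpotent_mul_right hz, fun ⟨n, hn⟩ => ⟨n, by
      rw [mul_pow] at hn
      exact ((hgu.pow k).pow n).mul_left_eq_zero.1 hn⟩⟩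
  haveI : (nilradical A₁).IsPrime := by
    refine ⟨fun h => hgq ((hnilq g).1 (mem_nilradical.1 (h ▸ Submodule.mem_top))), fun {y z} hyz => ?_⟩
    obtain ⟨a, k, ha⟩ := hrep y
    obtain ⟨b, l, hb⟩ := hrep z
    rw [mem_nilradical, mem_nilradical]
    rw [hrepnil y a k ha, hrepnil z b l hb]
    refine hqp.mem_or_mem ((hrepnil (y * z) (a * b) (k + l) ?_).1 (mem_nilradical.1 hyz))
    rw [map_mul, ← ha, ← hb]; ring
  haveI : IrreducibleSpace (PrimeSpectrum A₁) :=
    PrimeSpectrum.irreducibleSpace_iff_isPrime_nilradical.mpr inferInstance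
  obtain ⟨e⟩ := baseNEquiv (R := A₁) N
  haveI hflat₁ : Module.Flat A₁ ((κ → MvPolynomial σ A₁) ⧸ baseN (algebraMap A A₁) N) :=
    Module.Flat.of_linearEquiv e
  haveI : IsNoetherianRing Q := inferInstance
  haveI : IsNoetherianRing A₁ := IsLocalization.isNoetherianRing (Submonoid.powers (Ideal.Quotient.mk J g)) A₁ inferInstance
  haveI : Module.FinitePresentation (MvPolynomial σ A₁) ((κ → MvPolynomial σ A₁) ⧸ baseN (algebraMap A A₁) N) :=
    Module.finitePresentation_of_finite _ _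
  haveI : Algebra.FinitePresentation A₁ (MvPolynomial σ A₁) := inferInstance
  obtain ⟨h₁, hh₁, hfree⟩ : ∃ h₁ : A₁, h₁ ∉ nilradical A₁ ∧ ∀ (A' : Type u) [CommRing A'] [Algebra A₁ A'],
      IsUnit (algebraMap A₁ A' h₁) → Module.Free A' (A' ⊗[A₁] ((κ → MvPolynomial σ A₁) ⧸ baseN (algebraMap A A₁) N)) :=
    exists_free_away_of_flat_generic (B := MvPolynomial σ A₁) _ (nilradical A₁) rfl inferInstance
  obtain ⟨h₀, k, hk⟩ := hrep h₁
  have hh₀ : h₀ ∉ q := fun hm => hh₁ (mem_nilradical.2 ((hrepnil h₁ h₀ k hk).2 hm))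
  refine ⟨g * h₀, fun hm => (hqp.mem_or_mem (hq.1.2 hm)).elim hgq hh₀, fun A' _ _ hu hJ' => ?_⟩
  rw [map_mul, IsUnit.mul_iff] at hu
  let ψ : Q →+* A' := Ideal.Quotient.lift J (algebraMap A A') fun a ha => by
    rw [← Ideal.mem_bot, ← hJ']; exact Ideal.mem_map_of_mem _ ha
  letI : Algebra A₁ A' :=
    (IsLocalization.Away.lift (S := A₁) (Ideal.Quotient.mk J g) (g := ψ) hu.1).toAlgebra
  haveI : IsScalarTower A A₁ A' := IsScalarTower.of_algebraMap_eq fun a => by
    show _ = IsLocalization.Away.lift (S := A₁) (Ideal.Quotient.mk J g) (g := ψ) hu.1 (φ a)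
    rw [hφ, IsLocalization.Away.lift_eq]
    rfl
  have hu₁ : IsUnit (algebraMap A₁ A' h₁) := by
    have h2 := congrArg (algebraMap A₁ A') hk
    rw [map_mul, map_pow, ← IsScalarTower.algebraMap_apply A A₁ A', ← IsScalarTower.algebraMap_apply A A₁ A'] at h2
    exact (IsUnit.mul_iff.1 (h2 ▸ hu.2)).1
  haveI := hfree A' hu₁
  exact Module.Free.of_equiv ((AlgebraTensorModule.congr (LinearEquiv.refl A' A') e) ≪≫ₗ
    AlgebraTensorModule.cancelBaseChange A A₁ A' A' M)

/-- A principal stratification of `V(J)` with free strata. -/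
theorem exists_freeOn_list {A : Type u} [CommRing A] [IsNoetherianRing A]
    (N : Submodule (MvPolynomial σ A) (κ → MvPolynomial σ A)) [Module.Flat A ((κ → MvPolynomial σ A) ⧸ N)]
    (J : Ideal A) : ∃ l : List A, J ⊔ Ideal.span {a | a ∈ l} = ⊤ ∧
      ∀ (i : ℕ) (hi : i < l.length), FreeOn ((κ → MvPolynomial σ A) ⧸ N) (J ⊔ Ideal.span {a | a ∈ l.take i}) l[i] := by
  induction J using WellFoundedGT.induction with
  | ind J ih =>
    by_cases hJ : J = ⊤
    · exact ⟨[], by rw [hJ, top_sup_eq], fun i hi => absurd hi (by simp)⟩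
    obtain ⟨f, hf, hfree⟩ := exists_freeOn N J hJ
    have hlt : J < J ⊔ Ideal.span {f} :=
      lt_of_le_of_ne le_sup_left fun h => hf (h ▸ Submodule.mem_sup_right (Ideal.mem_span_singleton_self f))
    obtain ⟨l, hl, hlf⟩ := ih _ hlt
    refine ⟨f :: l, ?_, fun i hi => ?_⟩
    · rw [show {a : A | a ∈ f :: l} = insert f {a | a ∈ l} by ext; simp, Ideal.span_insert, ← sup_assoc, hl]
    cases i with
    | zero => simpa using hfree
    | succ i =>
      have h1 : {a : A | a ∈ (f :: l).take (i + 1)} = insert f {a | a ∈ l.take i} := by ext; simp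
      rw [h1, Ideal.span_insert, ← sup_assoc]
      simpa using hlf i (by simpa using hi)

/-- A flat finitely presented module has a principal stratification with free strata. -/
theorem exists_free_stratification {A B : Type u} [CommRing A] [CommRing B] [Algebra A B]
    [Algebra.FinitePresentation A B] (M : Type u) [AddCommGroup M] [Module B M] [Module A M] [IsScalarTower A B M]
    [Module.FinitePresentation B M] [Module.Flat A M] :
    ∃ l : List A, Ideal.span {a | a ∈ l} = ⊤ ∧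
      ∀ (i : ℕ) (hi : i < l.length), FreeOn M (Ideal.span {a | a ∈ l.take i}) l[i] := by
  classical
  obtain ⟨n, k, π, hπ, N, hN, f, hf, hsmul, hker⟩ := exists_presentation A B M
  let P := MvPolynomial (Fin n) A
  let fA : (Fin k → P) →ₗ[A] M :=
    { f with
      map_smul' := fun a x => by
        show f (a • x) = a • f x
        rw [← algebraMap_smul P a x, hsmul, AlgHom.commutes, algebraMap_smul] }
  have hfker : LinearMap.ker fA = N.restrictScalars A := by
    ext x
    exact hker x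
  let eM : ((Fin k → P) ⧸ N) ≃ₗ[A] M :=
    (Submodule.Quotient.restrictScalarsEquiv A N).symm ≪≫ₗ Submodule.quotEquivOfEq _ _ hfker.symm ≪≫ₗ
      fA.quotKerEquivOfSurjective hf
  haveI : Module.Flat A ((Fin k → P) ⧸ N) := Module.Flat.of_linearEquiv eM
  obtain ⟨A₁, hA₁, -, N₁, hN₁, hfl⟩ := exists_flat_model hN ⊥ Subalgebra.fg_bot
  haveI : Algebra.FiniteType ℤ A₁ := ⟨A₁.fg_top.mpr hA₁⟩
  haveI : IsNoetherianRing A₁ := Algebra.FiniteType.isNoetherianRing ℤ A₁
  haveI : Module.Flat A₁ ((Fin k → MvPolynomial (Fin n) A₁) ⧸ N₁) := by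
    have h := hfl A₁ hA₁ le_rfl
    have hid : baseN (Subalgebra.inclusion (le_refl A₁)).toRingHom N₁ = N₁ := by
      have : (Subalgebra.inclusion (le_refl A₁)).toRingHom = RingHom.id A₁ := RingHom.ext fun _ => rfl
      rw [this]
      refine le_antisymm (Submodule.span_le.mpr ?_) fun v hv => ?_
      · rintro _ ⟨v, hv, rfl⟩
        rwa [show mapF (RingHom.id A₁) v = v from funext fun i => MvPolynomial.map_id _]
      · have := mapF_mem_baseN (φ := RingHom.id A₁) hv
        rwa [show mapF (RingHom.id A₁) v = v from funext fun i => MvPolynomial.map_id _] at this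
    rwa [hid] at h
  obtain ⟨l, hl, hlf⟩ := exists_freeOn_list N₁ ⊥
  rw [bot_sup_eq] at hl
  have himg : ∀ m : List A₁, Ideal.span {a : A | a ∈ m.map (algebraMap A₁ A)} =
      (Ideal.span {a | a ∈ m}).map (algebraMap A₁ A) := fun m => by
    rw [Ideal.map_span]; congr 1; ext; simp
  refine ⟨l.map (algebraMap A₁ A), ?_, fun i hi A' _ _ hu hJ => ?_⟩
  · rw [himg, hl, Ideal.map_top]
  obtain ⟨e⟩ := baseNEquiv (R := A) N₁
  haveI := hlf i (by simpa using hi) A'
    (by rw [IsScalarTower.algebraMap_apply A₁ A A']; simpa using hu)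
    (by rw [bot_sup_eq, IsScalarTower.algebraMap_eq A₁ A A', ← Ideal.map_map, ← himg, List.map_take]; exact hJ)
  exact Module.Free.of_equiv ((AlgebraTensorModule.cancelBaseChange A₁ A A' A'
      ((Fin k → MvPolynomial (Fin n) A₁) ⧸ N₁)).symm ≪≫ₗ
    AlgebraTensorModule.congr (LinearEquiv.refl A' A')
      (e.symm ≪≫ₗ (Submodule.quotEquivOfEq _ _ hN₁).restrictScalars A ≪≫ₗ eM))

end Groth.FlatDescent
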